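import Cfsg.Agent.H654.OZ.Deg
import Cfsg.Agent.H654.OZ.El
import Cfsg.Agent.H628.Sq.TwFMain
import Cfsg.Agent.H730.OZ.Defs
import Cfsg.Agent.S0165

/-!
# S4842: the row of `²F₄(q)`, `q > 2` (helper654)
-/

set_option autoImplicit false
set_option linter.unusedSectionVars false

open scoped ComplexConjugate

namespace Cfsg.Agent.H654.OZ

open Cfsg Cfsg.Agent.SplitTwo Cfsg.Agent.SplitTwo.ZS Cfsg.Agent.TitsThree.RankTwoZ Cfsg.Agent.SplitTwo.RootSysZ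
open Cfsg.Agent.KFacts.TwF4 Cfsg.Agent.KFacts.TwF4.Arc Cfsg.Agent.KFacts.TwF4.SylU Cfsg.Agent.KFacts.TwF4.TorEx
open Cfsg.Agent.KFacts.TwF4.Full Cfsg.Agent.KFacts.TwF4.Irr
open Cfsg.Agent.H42.Deg.F4 Cfsg.Agent.H628.Sq.TwFNorm Cfsg.Agent.H628.Sq.TwFHC Cfsg.Agent.H628.Sq.Lin
open Cfsg.Agent.OddOrderCharacters.Clifford Cfsg.Agent.Characters
open Cfsg.Agent.H42.Deg.F4B (PB L4_le_PB)
open Cfsg.Agent.H985.VZ Module

universe u

section lin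

variable {F : Type*} [Field F] {σ : F →+* F} {G : Type u} [Group G] (S : Full σ G) [Finite F] [Finite G]

/-- a reflection fixing `θ` -/
theorem exists_fix {n w : G} {e : ℤ} (hn : Re S n e) (hw : Dih S w) {X : Subgroup G} (θ : BB S →* ℂˣ)
    (h : ∀ c ∈ S.T ⊔ X, ∀ (h1 : w⁻¹ * c * w ∈ BB S) (h2 : w⁻¹ * (n⁻¹ * c * n) * w ∈ BB S), n⁻¹ * c * n ∈ S.T ⊔ X →
      θ ⟨_, h2⟩ = θ ⟨_, h1⟩) :
    ∃ y c, Re S y c ∧ (c - e) % 2 = 0 ∧ ∀ t (ht : t ∈ S.T), ∃ h' : y⁻¹ * t * y ∈ S.T,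
      θ ⟨_, T_le_BB S h'⟩ = θ ⟨t, T_le_BB S ht⟩ := by
  have key : ∀ c, Re S (w⁻¹ * n * w) c → ∀ t (ht : t ∈ S.T), ∃ h' : (w⁻¹ * n * w)⁻¹ * t * (w⁻¹ * n * w) ∈ S.T,
      θ ⟨_, T_le_BB S h'⟩ = θ ⟨t, T_le_BB S ht⟩ := by
    intro c hc t ht
    have hwi : Dih S w⁻¹ := by
      obtain ⟨a, ha | ha⟩ := hw
      · exact ⟨_, Or.inl ha.inv⟩
      · exact ⟨_, Or.inr ha.inv⟩
    have h1 : w * t * w⁻¹ ∈ S.T := by
      have := hwi.tor ht
      rwa [inv_inv] at this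
    have h2 : n⁻¹ * (w * t * w⁻¹) * n ∈ S.T := hn.tor h1
    have h3 : w⁻¹ * (n⁻¹ * (w * t * w⁻¹) * n) * w ∈ S.T := hw.tor h2
    have e1 : w⁻¹ * (w * t * w⁻¹) * w = t := by group
    have e2 : w⁻¹ * (n⁻¹ * (w * t * w⁻¹) * n) * w = (w⁻¹ * n * w)⁻¹ * t * (w⁻¹ * n * w) := by group
    have h4 : w⁻¹ * (w * t * w⁻¹) * w ∈ BB S := by rw [e1]; exact T_le_BB S ht
    have h5 := h _ (Subgroup.mem_sup_left h1) h4 (T_le_BB S h3) (Subgroup.mem_sup_left h2)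
    refine ⟨e2 ▸ h3, ?_⟩
    have f1 : (⟨_, h4⟩ : BB S) = ⟨t, T_le_BB S ht⟩ := Subtype.ext e1
    have f2 : (⟨_, T_le_BB S h3⟩ : BB S) = ⟨_, T_le_BB S (e2 ▸ h3 : (w⁻¹ * n * w)⁻¹ * t * (w⁻¹ * n * w) ∈ S.T)⟩ :=
      Subtype.ext e2
    rw [f1, f2] at h5
    exact h5
  obtain ⟨a, ha | ha⟩ := hw
  · have h1 : Re S (w⁻¹ * n * w) (-a + e - a) := (ha.inv.mulRe hn).mulRo ha
    exact ⟨_, _, h1, by omega, key _ h1⟩
  · have h1 : Re S (w⁻¹ * n * w) (a - e + a) := (ha.inv.mul hn).mulRe ha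
    exact ⟨_, _, h1, by omega, key _ h1⟩

/-- **a linear character fixed by reflections of both types is trivial** -/
theorem lin_one (θ : BB S →* ℂˣ) (hU : ∀ u (hu : u ∈ J S.XZ 1 8), θ ⟨u, J_le_BB S hu⟩ = 1) {y y' : G} {c c' : ℤ}
    (hy : Re S y c) (hy' : Re S y' c') (hc : (c - 5) % 2 = 0) (hc' : (c' - 4) % 2 = 0)
    (h : ∀ t (ht : t ∈ S.T), ∃ h' : y⁻¹ * t * y ∈ S.T, θ ⟨_, T_le_BB S h'⟩ = θ ⟨t, T_le_BB S ht⟩)
    (h' : ∀ t (ht : t ∈ S.T), ∃ h' : y'⁻¹ * t * y' ∈ S.T, θ ⟨_, T_le_BB S h'⟩ = θ ⟨t, T_le_BB S ht⟩) : θ = 1 := by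
  let P : G → Prop := fun g => ∀ t (ht : t ∈ S.T), ∃ h' : g⁻¹ * t * g ∈ S.T,
    θ ⟨_, T_le_BB S h'⟩ = θ ⟨t, T_le_BB S ht⟩
  have hP : ∀ g h, P g → P h → P (g * h) := by
    intro g h hg hh t ht
    obtain ⟨a1, a2⟩ := hg t ht
    obtain ⟨b1, b2⟩ := hh _ a1
    have e : (g * h)⁻¹ * t * (g * h) = h⁻¹ * (g⁻¹ * t * g) * h := by group
    have e1 : (g * h)⁻¹ * t * (g * h) ∈ S.T := e ▸ b1
    refine ⟨e1, ?_⟩
    rw [← a2, ← b2]
    congr 1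
    exact Subtype.ext e
  have p1 : P (y * y') := hP _ _ h h'
  have p2 := hP _ _ p1 p1
  have p3 := hP _ _ p2 p2
  have r1 : Ro S (y * y') (c - c') := hy.mul hy'
  have r2 := r1.mul r1
  have r3 := r2.mul r2
  have r4 : Ro S (y * y' * (y * y') * (y * y' * (y * y'))) 4 := r3.cong (by
    obtain ⟨j, hj⟩ : ∃ j, c - c' = 2 * j + 1 := ⟨(c - c') / 2, by omega⟩
    rw [hj, ZMod.intCast_eq_intCast_iff_dvd_sub]
    exact ⟨-j, by push_cast; ring⟩)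
  have hsq : ∀ t (ht : t ∈ S.T), θ ⟨t, T_le_BB S ht⟩ * θ ⟨t, T_le_BB S ht⟩ = 1 := by
    intro t ht
    obtain ⟨a1, a2⟩ := p3 t ht
    have e : (⟨_, T_le_BB S a1⟩ : BB S) = ⟨t, T_le_BB S ht⟩⁻¹ :=
      Subtype.ext (Cfsg.Agent.H42.Deg.F4St.inv_of_rot8 S r4 ht)
    rw [e, map_inv] at a2
    nth_rw 1 [← a2]
    exact inv_mul_cancel _
  have hT : ∀ t (ht : t ∈ S.T), θ ⟨t, T_le_BB S ht⟩ = 1 := by
    intro t ht
    obtain ⟨c, d, rfl⟩ := S.mem_T.1 ht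
    obtain ⟨a, ha⟩ := exists_sq S c
    obtain ⟨b, hb⟩ := exists_sq S d
    have hs : S.h a b ∈ S.T := S.mem_T.2 ⟨a, b, rfl⟩
    have e : (⟨S.h c d, T_le_BB S ht⟩ : BB S) = ⟨S.h a b, T_le_BB S hs⟩ * ⟨S.h a b, T_le_BB S hs⟩ :=
      Subtype.ext (by
        show S.h c d = S.h a b * S.h a b
        rw [S.h_mul, ha, hb])
    rw [e, map_mul]
    exact hsq _ hs
  refine MonoidHom.ext fun ⟨x, hx⟩ => ?_
  obtain ⟨t, ht, u, hu, rfl⟩ := BB_form hx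
  have e : (⟨t * u, hx⟩ : BB S) = ⟨t, T_le_BB S ht⟩ * ⟨u, J_le_BB S hu⟩ := rfl
  rw [e, map_mul, hT t ht, hU _ hu, one_mul]
  rfl

end lin

/-! ### arithmetic -/

/-- two primes -/
theorem two_primes' {k m : ℕ} (hm : 1 ≤ m) (hk : k + 1 = 2 ^ (2 * m + 1)) :
    ∃ r s : ℕ, r.Prime ∧ s.Prime ∧ r ≠ s ∧ r ∣ (k + 1) ^ 6 + 1 ∧ s ∣ (k + 1) ^ 3 + 1 ∧
      (¬ r ∣ k + 1 ∧ ¬ r ∣ k ∧ ¬ r ∣ k + 2 ∧ ¬ r ∣ (k + 1) ^ 2 + 1) ∧
      (¬ s ∣ k + 1 ∧ ¬ s ∣ k ∧ ¬ s ∣ k + 2 ∧ ¬ s ∣ (k + 1) ^ 2 + 1) := by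
  obtain ⟨h3, h4, -, h2⟩ := three_dvd hm
  rw [← hk] at h3 h4 h2
  obtain ⟨j, hj⟩ : ∃ j, k = 3 * j + 1 := ⟨k / 3, by omega⟩
  have hk7 : 7 ≤ k := by
    have : 2 ^ 3 ≤ 2 ^ (2 * m + 1) := Nat.pow_le_pow_right (by norm_num) (by omega)
    omega
  have hj1 : 1 ≤ j := by omega
  obtain ⟨r, hr, hr1⟩ := Nat.exists_prime_and_dvd (n := (k + 1) ^ 4 - (k + 1) ^ 2 + 1) (by
    rw [Cfsg.Agent.H628.Sq.TwFMain.eqN]
    have : 0 < (k + 1) ^ 2 * (k * (k + 2)) := by positivity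
    omega)
  obtain ⟨a1, a2, a3, a4⟩ := Cfsg.Agent.H628.Sq.TwFMain.prime_aux hr hr1
  rw [← pow_two] at a4
  rw [Cfsg.Agent.H628.Sq.TwFMain.eqN] at hr1
  obtain ⟨s, hs, hs1⟩ := Nat.exists_prime_and_dvd (n := 3 * j ^ 2 + 3 * j + 1) (by omega)
  have hs3 : s ≠ 3 := by
    rintro rfl
    omega
  have hs2 : s ∣ k * (k + 1) + 1 := by
    have e : k * (k + 1) + 1 = 3 * (3 * j ^ 2 + 3 * j + 1) := by rw [hj]; ring
    rw [e]
    exact hs1.mul_left 3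
  have b1 : ¬ s ∣ k + 1 := fun h => hs.one_lt.ne' (Nat.dvd_one.1 ((Nat.dvd_add_right (h.mul_left _)).1 hs2))
  have b2 : ¬ s ∣ k := fun h => hs.one_lt.ne' (Nat.dvd_one.1 ((Nat.dvd_add_right (h.mul_right _)).1 hs2))
  have b3 : ¬ s ∣ k + 2 := by
    intro h
    have e : k * (k + 1) + 1 + (k + 2) = (k + 2) * k + 3 := by ring
    have h5 : s ∣ (k + 2) * k + 3 := e ▸ dvd_add hs2 h
    exact hs3 ((Nat.prime_dvd_prime_iff_eq hs Nat.prime_three).1 ((Nat.dvd_add_right (h.mul_right _)).1 h5))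
  have b4 : ¬ s ∣ (k + 1) ^ 2 + 1 := by
    intro h
    have e : (k + 1) ^ 2 + 1 = (k * (k + 1) + 1) + (k + 1) := by ring
    rw [e] at h
    exact b1 ((Nat.dvd_add_right hs2).1 h)
  refine ⟨r, s, hr, hs, ?_, ?_, ?_, ⟨a1, a2, a3, a4⟩, b1, b2, b3, b4⟩
  · rintro rfl
    have e : (k + 1) ^ 2 * (k * (k + 2)) + 1 + 2 * k = (k * (k + 1) + 1) * (k ^ 2 + 3 * k + 1) := by ring
    have h5 : r ∣ 2 * k := (Nat.dvd_add_right hr1).1 (e ▸ hs2.mul_right _)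
    rcases hr.dvd_mul.1 h5 with h | h
    · have h6 := (Nat.prime_dvd_prime_iff_eq hr Nat.prime_two).1 h
      subst h6
      exact a1 h2
    · exact a2 h
  · have e : (k + 1) ^ 6 + 1 = ((k + 1) ^ 2 + 1) * ((k + 1) ^ 2 * (k * (k + 2)) + 1) := by ring
    rw [e]
    exact hr1.mul_left _
  · have e : (k + 1) ^ 3 + 1 = (k + 2) * (k * (k + 1) + 1) := by ring
    rw [e]
    exact hs2.mul_left _

/-- zeros at the `r`-singular elements -/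
theorem zero_of {G : Type u} [Group G] [Finite G] {V : Type*} [AddCommGroup V] [Module ℂ V] [FiniteDimensional ℂ V]
    (ρ : Representation ℂ G V) [ρ.IsIrreducible] {M : ℕ} (h : M * finrank ℂ V = Nat.card G) {r : ℕ} (hr : r.Prime)
    (hrM : ¬ r ∣ M) {x : G} (hx : r ∣ orderOf x) : ρ.character x = 0 := by
  refine Cfsg.Agent.S0165.result ρ r ((Nat.card G).factorization r) hr (Nat.ordProj_dvd _ _)
    (Nat.pow_succ_factorization_not_dvd Nat.card_pos.ne' hr) ?_ x hx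
  have h1 : r ^ (Nat.card G).factorization r ∣ M * finrank ℂ V := by
    rw [h]
    exact Nat.ordProj_dvd _ _
  exact (Nat.Coprime.pow_left _ ((Nat.Prime.coprime_iff_not_dvd hr).2 hrM)).dvd_of_dvd_mul_left h1

/-- the arithmetic of the four cases -/
theorem four_cases {k n N : ℕ} {c d : ℂ} (hk : 0 < k) (hN : N = (k + 1) ^ 12 * k * ((k + 1) ^ 3 + 1) *
    ((k + 1) ^ 4 - 1) * ((k + 1) ^ 6 + 1)) (hc : c = 1 ∨ c = -((k + 1 : ℕ) : ℂ)⁻¹)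
    (hd : d = 1 ∨ d = -(((k + 1) ^ 2 : ℕ) : ℂ)⁻¹)
    (h : ((k ^ 2 * (k + 1) ^ 12 : ℕ) : ℂ) * ((1 + ((k + 1 : ℕ) : ℂ) * c ^ 2) * (1 + ((k + 1 : ℕ) : ℂ) ^ 2 * d ^ 2) *
        (1 + (((k + 1 : ℕ) : ℂ) * c ^ 2) * (((k + 1 : ℕ) : ℂ) ^ 2 * d ^ 2) +
          ((((k + 1 : ℕ) : ℂ) * c ^ 2) * (((k + 1 : ℕ) : ℂ) ^ 2 * d ^ 2)) ^ 2 +
          ((((k + 1 : ℕ) : ℂ) * c ^ 2) * (((k + 1 : ℕ) : ℂ) ^ 2 * d ^ 2)) ^ 3)) * (n : ℂ) = N) :
    n = 1 ∨
      (k ^ 2 * (k + 1) ^ 7 * (k + 2) * ((k + 1) ^ 2 + 1) * ((k + 2) * ((k + 1) ^ 2 + 1))) * n = N ∨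
      (k ^ 2 * (k + 1) ^ 11 * (k + 2) * ((k + 1) ^ 2 + 1) * ((k + 2) * ((k + 1) ^ 2 + 1))) * n = N ∨
      (k ^ 2 * (k + 2) * ((k + 1) ^ 2 + 1) * (((k + 1) ^ 3 + 1) * ((k + 1) ^ 6 + 1))) * n = N := by
  have hq : ((k + 1 : ℕ) : ℂ) ≠ 0 := by exact_mod_cast (Nat.succ_ne_zero k)
  have hq' : (k : ℂ) + 1 ≠ 0 := by exact_mod_cast hq
  rcases hc with rfl | rfl <;> rcases hd with rfl | rfl
  · left
    have e1 : ((k ^ 2 * (k + 1) ^ 12 * ((1 + (k + 1)) * (1 + (k + 1) ^ 2) * (1 + (k + 1) ^ 3 + (k + 1) ^ 6 +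
        (k + 1) ^ 9)) * n : ℕ) : ℂ) = N := by
      rw [← h]
      push_cast
      ring
    have e2 : k ^ 2 * (k + 1) ^ 12 * ((1 + (k + 1)) * (1 + (k + 1) ^ 2) * (1 + (k + 1) ^ 3 + (k + 1) ^ 6 +
        (k + 1) ^ 9)) * n = N := by exact_mod_cast e1
    have e3 : N = k ^ 2 * (k + 1) ^ 12 * ((1 + (k + 1)) * (1 + (k + 1) ^ 2) * (1 + (k + 1) ^ 3 + (k + 1) ^ 6 +
        (k + 1) ^ 9)) := by
      rw [hN, Cfsg.Agent.H42.Deg.F4Two.eq4]
      ring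
    rw [e3] at e2
    have e4 : 0 < k ^ 2 * (k + 1) ^ 12 * ((1 + (k + 1)) * (1 + (k + 1) ^ 2) * (1 + (k + 1) ^ 3 + (k + 1) ^ 6 +
        (k + 1) ^ 9)) := by positivity
    exact Nat.eq_of_mul_eq_mul_left e4 (e2.trans (mul_one _).symm)
  · right; left
    have e1 : (((k ^ 2 * (k + 1) ^ 7 * (k + 2) * ((k + 1) ^ 2 + 1) * ((k + 2) * ((k + 1) ^ 2 + 1))) * n : ℕ) : ℂ) = N := by
      rw [← h]
      push_cast
      field_simp
      ring
    exact_mod_cast e1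
  · right; right; left
    have e1 : (((k ^ 2 * (k + 1) ^ 11 * (k + 2) * ((k + 1) ^ 2 + 1) * ((k + 2) * ((k + 1) ^ 2 + 1))) * n : ℕ) : ℂ) =
        N := by
      rw [← h]
      push_cast
      field_simp
      ring
    exact_mod_cast e1
  · right; right; right
    have e1 : (((k ^ 2 * (k + 2) * ((k + 1) ^ 2 + 1) * (((k + 1) ^ 3 + 1) * ((k + 1) ^ 6 + 1))) * n : ℕ) : ℂ) = N := by
      rw [← h]
      push_cast
      field_simp
      ring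
    exact_mod_cast e1

section main

variable {F : Type*} [Field F] {σ : F →+* F} {G : Type u} [Group G] (S : Full σ G) [Finite F] [Finite G]

theorem e_orders : orderOf (S.e 0 0 1) = 2 ∧ orderOf (S.e 0 1 0) = 4 := by
  have : Fact (Nat.Prime 2) := ⟨Nat.prime_two⟩
  have h2 := S.two
  have h11 : (1 : F) + 1 = 0 := by rw [one_add_one_eq_two]; exact h2
  have o2 : orderOf (S.e 0 0 1) = 2 := by
    refine orderOf_eq_prime ?_ ?_
    · rw [pow_two, S.e_mul, zero_mul, add_zero, add_zero, h11, S.e_zero]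
    · intro h
      exact one_ne_zero (S.e_eq_one h).2
  have sq : S.e 0 1 0 ^ 2 = S.e 0 0 1 := by
    rw [pow_two, S.e_mul, map_one, mul_one, add_zero, zero_add, h11]
  refine ⟨o2, ?_⟩
  have h3 : orderOf (S.e 0 1 0) = 2 ^ (1 + 1) := by
    refine orderOf_eq_prime_pow ?_ ?_
    · rw [pow_one, sq]
      intro h
      exact one_ne_zero (S.e_eq_one h).2
    · rw [pow_succ, pow_mul, pow_one, sq, ← o2, pow_orderOf_eq_one]
  exact h3

include S in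
/-- **no irreducible character of `²F₄(q)` vanishes on exactly one class** -/
theorem none {m : ℕ} (hm : 1 ≤ m) (hq : Nat.card F = 2 ^ (2 * m + 1)) (hF : ∃ c : Fˣ, c ≠ 1)
    (hG : Nat.card G = Nat.card F ^ 12 * (Nat.card F - 1) * (Nat.card F ^ 3 + 1) * (Nat.card F ^ 4 - 1) *
      (Nat.card F ^ 6 + 1)) {χ : G → ℂ} (hχ : IsIrrCharacter G χ) (h : H730.OZ.OneZero χ) : False := by
  classical
  let _ : Fintype G := Fintype.ofFinite G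
  have := Fintype.ofFinite (PP S)
  have := Fintype.ofFinite (PB S)
  have := Fintype.ofFinite (BB S)
  have := Fintype.ofFinite (J S.XZ 2 8)
  have := Fintype.ofFinite (J S.XZ 1 7)
  have := Fintype.ofFinite (J S.XZ 1 8)
  have := Fintype.ofFinite ↥(S.T ⊔ S.LO)
  have := Fintype.ofFinite ↥(S.T ⊔ L4 S)
  have := Fintype.ofFinite ((S.T ⊔ S.XZ 1).subgroupOf (S.T ⊔ S.LO))
  have := Fintype.ofFinite ((S.T ⊔ S.XZ 8).subgroupOf (S.T ⊔ L4 S))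
  obtain ⟨x₀, hx0, hx1⟩ := h
  -- zeros have the same order
  have same : ∀ x y, χ x = 0 → χ y = 0 → orderOf x = orderOf y := by
    have key : ∀ x, χ x = 0 → orderOf x = orderOf x₀ := by
      intro x hx
      obtain ⟨c, hc⟩ := isConj_iff.1 (hx1 x hx)
      rw [← hc]
      exact (MulAut.conj c).orderOf_eq x₀
    intro x y hx hy
    rw [key x hx, key y hy]
  have D1 := frP S
  have D2 := frB S hF
  obtain ⟨z, b, b', hz, hzf, k1, k1', ho, hoz, h3⟩ := el_one S hm hq hF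
  obtain ⟨y, c, c', hy, hyf, k2, k2', ho', hoy, h3'⟩ := el_two S hm hq hF
  -- elements vanish if there are no fixed vectors
  have van : ∀ (P R : Subgroup G) [Fintype R], (∀ g ∈ P, ∀ r ∈ R, g * r * g⁻¹ ∈ R) → ∑ r : R, χ r = 0 →
      ∀ t ∈ P, (∀ r ∈ R, t * r = r * t → r = 1) → χ t = 0 := by
    intro P R _ hn h0 t ht hf
    obtain ⟨n, ρ, hρ, rfl⟩ := hχ
    refine H710.Cuspidal.zero_of_regular ρ R h0 (x := t) (fun u => ⟨hn t ht u, fun hu => ?_⟩) hf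
    have := hn t⁻¹ (inv_mem ht) _ hu
    rwa [show t⁻¹ * (t * u * t⁻¹) * t⁻¹⁻¹ = u by group] at this
  have h28 : ∑ r : J S.XZ 2 8, χ r ≠ 0 := by
    intro h0
    have a1 := van (PP S) (J S.XZ 2 8) D1.norm h0 z (T_le_PP S hz) fun r hr hc =>
      hzf r hr (by rw [hc, mul_inv_cancel_right])
    have a2 := van (PP S) (J S.XZ 2 8) D1.norm h0 (z * b) (D1.LP k1.mem) k1.free
    exact hoz (same _ _ a2 a1)
  have h17 : ∑ r : J S.XZ 1 7, χ r ≠ 0 := by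
    intro h0
    have a1 := van (PB S) (J S.XZ 1 7) D2.norm h0 y (Cfsg.Agent.H42.Deg.F4B.T_le_PB S hy) fun r hr hc =>
      hyf r hr (by rw [hc, mul_inv_cancel_right])
    have a2 := van (PB S) (J S.XZ 1 7) D2.norm h0 (y * c) (D2.LP k2.mem) k2.free
    exact hoy (same _ _ a2 a1)
  have h18 := sum_J_ne S hχ h28 h17
  -- a linear character
  have hrc : IsCharacter (BB S) fun g : BB S => χ g := Core.isCharacter_comp (BB S).subtype (Core.isIrr_isCharacter hχ)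
  let U' : Subgroup (BB S) := (J S.XZ 1 8).subgroupOf (BB S)
  have := Fintype.ofFinite U'
  obtain ⟨θ, hθU, hθ⟩ := exists_lin hrc U' (fun g u hu => by
      rw [Subgroup.mem_subgroupOf] at hu ⊢
      exact BB_norm S g.2 hu) (fun h k => by
      obtain ⟨u, hu, e⟩ := BB_comm S h.2 k.2
      exact ⟨⟨u, J_le_BB S hu⟩, Subgroup.mem_subgroupOf.2 hu, Subtype.ext e⟩) (by
      intro h0
      apply h18
      rw [← h0]
      exact Fintype.sum_equiv (Subgroup.subgroupOfEquivOfLe (J_le_BB S)).toEquiv.symm _ _ fun k => rfl)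
  have hθU' : ∀ u (hu : u ∈ J S.XZ 1 8), θ ⟨u, J_le_BB S hu⟩ = 1 := fun u hu => hθU _ (Subgroup.mem_subgroupOf.2 hu)
  -- elliptic elements with nonzero values
  obtain ⟨t1, ht1, hχ1⟩ : ∃ t, El (J S.XZ 2 8) (S.T ⊔ S.LO) (S.T ⊔ S.XZ 1) t ∧ χ t ≠ 0 := by
    by_cases h0 : χ (z * b) = 0
    · exact ⟨_, k1', fun h1 => ho (same _ _ h0 h1)⟩
    · exact ⟨_, k1, h0⟩
  obtain ⟨t2, ht2, hχ2⟩ : ∃ t, El (J S.XZ 1 7) (S.T ⊔ L4 S) (S.T ⊔ S.XZ 8) t ∧ χ t ≠ 0 := by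
    by_cases h0 : χ (y * c) = 0
    · exact ⟨_, k2', fun h1 => ho' (same _ _ h0 h1)⟩
    · exact ⟨_, k2, h0⟩
  obtain ⟨w, hw, hwc⟩ := D1.lin_fix ht1 hχ θ hθ hχ1
  obtain ⟨w', hw', hwc'⟩ := D2.lin_fix ht2 hχ θ hθ hχ2
  obtain ⟨y1, c1, r1, r1', f1⟩ := exists_fix S (re1 S) hw θ hwc
  obtain ⟨y2, c2, r2', r2'', f2⟩ := exists_fix S (re2 S) hw' θ hwc'
  have hθ1 : θ = 1 := lin_one S θ hθU' r1 r2' r1' r2'' f1 f2
  have hB : ∑ b : BB S, χ b ≠ 0 := by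
    intro h0
    apply hθ
    rw [hθ1, classInner_apply]
    have e : ∑ g : BB S, χ g * conj ((((1 : BB S →* ℂˣ) g : ℂˣ)) : ℂ) = ∑ b : BB S, χ b :=
      Finset.sum_congr rfl fun g _ => by simp
    rw [e, h0, mul_zero]
  -- the values
  have v1 := D1.val_one k1 hχ hB
  have v1' := D1.val_one k1' hχ hB
  have v2 := D2.val_one k2 hχ hB
  have v2' := D2.val_one k2' hχ hB
  obtain ⟨n, ρ, hρ, rfl⟩ := hχ
  have R := r2 S hF
  have hdim : ∀ (H : Subgroup G) [Fintype H], (finrank ℂ (fx ρ H) : ℂ) = (Nat.card H : ℂ)⁻¹ * ∑ h : H, ρ.character h := by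
    intro H _
    have := trace_el_eq ρ H 1
    rw [eig_one] at this
    rw [this]
    congr 1
    exact Finset.sum_congr rfl fun x _ => by simp
  have n1 : 2 * finrank ℂ (fx ρ (PP S)) ≠ finrank ℂ (fx ρ (BB S)) := by
    intro h0
    have h1 : 2 * (finrank ℂ (fx ρ (PP S)) : ℂ) = finrank ℂ (fx ρ (BB S)) := by exact_mod_cast h0
    rw [← hdim, ← hdim, h1, sub_self] at v1 v1'
    exact ho (same _ _ v1 v1')
  have hd2 : ¬ 2 ≤ finrank ℂ (fx ρ (BB S)) := fun h2 => n1 (R.half h2).1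
  have hd0 : finrank ℂ (fx ρ (BB S)) ≠ 0 := by
    intro h0
    have h1 := hdim (BB S)
    rw [h0, Nat.cast_zero, eq_comm] at h1
    exact hB ((mul_eq_zero.1 h1).resolve_left (inv_ne_zero card_ne_zero'))
  have hd1 : finrank ℂ (fx ρ (BB S)) = 1 := by omega
  obtain ⟨c, d, hc, hd, hform⟩ := deg_formula S (ρ := ρ) hF hG hd1
  obtain ⟨k, hk⟩ : ∃ k, Nat.card F = k + 1 := ⟨Nat.card F - 1, by have : 0 < Nat.card F := Nat.card_pos; omega⟩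
  have hk7 : 0 < k := by
    have : 2 ^ 3 ≤ 2 ^ (2 * m + 1) := Nat.pow_le_pow_right (by norm_num) (by omega)
    omega
  rw [hk] at hG hc hd hform
  rw [Nat.add_sub_cancel] at hG hform
  have hkm : k + 1 = 2 ^ (2 * m + 1) := by rw [← hk, hq]
  obtain ⟨r, s, hr, hs, hrs, hrd, hsd, ⟨ra, rb, rc, rd⟩, sa, sb, sc, sd⟩ := two_primes' hm hkm
  -- the mixed cases
  have mixed : ∀ e : ℕ, (k ^ 2 * (k + 1) ^ e * (k + 2) * ((k + 1) ^ 2 + 1) * ((k + 2) * ((k + 1) ^ 2 + 1))) *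
      finrank ℂ (Fin n → ℂ) = Nat.card G → False := by
    intro e he
    have nd : ∀ r : ℕ, r.Prime → ¬ r ∣ k + 1 → ¬ r ∣ k → ¬ r ∣ k + 2 → ¬ r ∣ (k + 1) ^ 2 + 1 →
        ¬ r ∣ k ^ 2 * (k + 1) ^ e * (k + 2) * ((k + 1) ^ 2 + 1) * ((k + 2) * ((k + 1) ^ 2 + 1)) := by
      intro r hr a1 a2 a3 a4 h
      simp only [hr.dvd_mul] at h
      rcases h with (((h | h) | h) | h) | h | h
      · exact a2 (hr.dvd_of_dvd_pow h)
      · exact a1 (hr.dvd_of_dvd_pow h)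
      · exact a3 h
      · exact a4 h
      · exact a3 h
      · exact a4 h
    have : Fact r.Prime := ⟨hr⟩
    have : Fact s.Prime := ⟨hs⟩
    obtain ⟨x, hx⟩ := exists_prime_orderOf_dvd_card' (G := G) r (by
      rw [hG]
      exact hrd.mul_left _)
    obtain ⟨x', hx'⟩ := exists_prime_orderOf_dvd_card' (G := G) s (by
      rw [hG]
      exact ((hsd.mul_left _).mul_right _).mul_right _)
    have z1 := zero_of ρ he hr (nd r hr ra rb rc rd) (x := x) (by rw [hx])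
    have z2 := zero_of ρ he hs (nd s hs sa sb sc sd) (x := x') (by rw [hx'])
    have := same _ _ z1 z2
    rw [hx, hx'] at this
    exact hrs this
  rcases four_cases hk7 hG hc hd hform with h | h | h | h
  · -- the trivial character
    have h1 : ρ.character 1 = 1 := by rw [Representation.char_one, h, Nat.cast_one]
    obtain ⟨f, hf⟩ := Characters.Linear.exists_hom_of_isIrrCharacter (Core.isIrrCharacter_of_rep ρ hρ) h1
    rw [hf] at hx0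
    exact (f x₀).ne_zero hx0
  · exact mixed 7 h
  · exact mixed 11 h
  · -- the Steinberg character
    have h2k : 2 ∣ k + 1 := by rw [hkm]; exact dvd_pow_self 2 (by omega)
    have nd : ¬ 2 ∣ k ^ 2 * (k + 2) * ((k + 1) ^ 2 + 1) * (((k + 1) ^ 3 + 1) * ((k + 1) ^ 6 + 1)) := by
      intro h
      have o1 : ∀ e : ℕ, ¬ 2 ∣ (k + 1) ^ (e + 1) + 1 := by
        intro e h4
        have : 2 ∣ (k + 1) ^ (e + 1) := h2k.trans (dvd_pow_self _ (by omega))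
        omega
      simp only [Nat.prime_two.dvd_mul] at h
      rcases h with ((h | h) | h) | h | h
      · have := Nat.prime_two.dvd_of_dvd_pow h
        omega
      · omega
      · exact o1 1 h
      · exact o1 2 h
      · exact o1 5 h
    obtain ⟨o2, o4⟩ := e_orders S
    have z1 := zero_of ρ h Nat.prime_two nd (x := S.e 0 0 1) (by rw [o2])
    have z2 := zero_of ρ h Nat.prime_two nd (x := S.e 0 1 0) (by rw [o4]; norm_num)
    have := same _ _ z1 z2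
    rw [o2, o4] at this
    omega

end main

/-- **the row of `²F₄(q)`, `q > 2`, of S4842** -/
theorem row_TwF4 {S : Type u} [Group S] [Finite S] (h : Lie.Iso2F4 S) : H730.OZ.Row S := by
  intro χ hχ hz
  exfalso
  obtain ⟨K, _, _, m, hm, hK, ⟨e⟩⟩ := h
  have hch := Cfsg.Agent.ChevalleyStructure.TwF4.Twisted.charP_two hK
  have hfin : Finite ↥(Lie.twistedF4 K (2 ^ m)) := Finite.of_equiv S e.toEquiv
  obtain ⟨φ, hφ⟩ := Cfsg.Agent.ChevalleyStructure.TwF4.TwistedFix.exists_rln hK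
  have hcard := Cfsg.Agent.S1068.result hK
  have hq : Nat.card K = 2 ^ (2 * m + 1) := by rw [Nat.card_eq_fintype_card, hK]
  refine none (Cfsg.Agent.KFacts.TwF4.Inst.full hK hφ) hm hq (exists_unit hm hK) ?_
    (Core.isIrr_comp e.symm.toMonoidHom e.symm.surjective hχ) ?_
  · rw [hcard, hq]
  · obtain ⟨x, hx, hx'⟩ := hz
    refine ⟨e x, ?_, fun y hy => ?_⟩
    · show χ (e.symm (e x)) = 0
      rw [e.symm_apply_apply, hx]
    · obtain ⟨c, hc⟩ := isConj_iff.1 (hx' (e.symm y) hy)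
      exact isConj_iff.2 ⟨e c, by rw [← map_inv, ← map_mul, ← map_mul, hc, e.apply_symm_apply]⟩

end Cfsg.Agent.H654.OZ
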